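import Cfsg.Agent.GLOrders.Basic
import Mathlib.LinearAlgebra.Matrix.Charpoly.Eigs
import Mathlib.FieldTheory.Finite.Trace
import Mathlib.FieldTheory.IsAlgClosed.Spectrum
import Mathlib.FieldTheory.Perfect

/-! Primary decomposition facts for a single matrix over a field: the characteristic polynomial has the
irreducible factors of the minimal polynomial, idempotents in `F[A]`, and the projective order of a
primary element of determinant one over a finite field. -/

set_option autoImplicit false

namespace CfsgLib.GLOrders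

open Polynomial

/-- Every irreducible factor of the characteristic polynomial divides every annihilating polynomial. -/
theorem irreducible_dvd_of_dvd_charpoly {F : Type*} [Field F] {n : Type*} [Fintype n] [DecidableEq n]
    (A : Matrix n n F) {f g : F[X]} (hf : Irreducible f) (hfA : f ∣ A.charpoly) (hg : aeval A g = 0) : f ∣ g := by
  classical
  have : Fact (Irreducible f) := ⟨hf⟩
  let φ := algebraMap F (AdjoinRoot f)
  have hroot : (A.map φ).charpoly.IsRoot (AdjoinRoot.root f) := by
    rw [Matrix.charpoly_map, Polynomial.IsRoot, Polynomial.eval_map, ← AdjoinRoot.mk_eq_zero.mpr hfA,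
      ← AdjoinRoot.aeval_eq, aeval_def]
  rcases isEmpty_or_nonempty n with h | h
  · have : A.charpoly = 1 := Matrix.charpoly_isEmpty
    exact absurd (isUnit_of_dvd_one (this ▸ hfA)) hf.not_isUnit
  have hspec := Matrix.mem_spectrum_of_isRoot_charpoly hroot
  have h0 : aeval (A.map φ) (g.map φ) = 0 := by
    rw [aeval_map_algebraMap]
    have := congrArg (fun M => ((Algebra.ofId F (AdjoinRoot f)).mapMatrix : Matrix n n F →ₐ[F] _) M) hg
    simp only [← Polynomial.aeval_algHom_apply, map_zero] at this
    exact this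
  have h1 := spectrum.subset_polynomial_aeval (A.map φ) (g.map φ) ⟨AdjoinRoot.root f, hspec, rfl⟩
  rw [h0, spectrum.zero_eq, Set.mem_singleton_iff] at h1
  simp only [Polynomial.eval_map, ← aeval_def, φ] at h1
  rw [AdjoinRoot.aeval_eq, AdjoinRoot.mk_eq_zero] at h1
  exact h1

/-- If a power of an irreducible monic polynomial kills `A` then the characteristic polynomial is a power of it. -/
theorem charpoly_eq_pow {F : Type*} [Field F] {n : Type*} [Fintype n] [DecidableEq n]
    (A : Matrix n n F) {f : F[X]} (hf : Irreducible f) (hm : f.Monic) (k : ℕ) (hA : aeval A (f ^ k) = 0) :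
    ∃ e, A.charpoly = f ^ e := by
  classical
  have hall : ∀ g ∈ UniqueFactorizationMonoid.normalizedFactors A.charpoly, g = f := by
    intro g hg
    have hirr := UniqueFactorizationMonoid.irreducible_of_normalized_factor g hg
    have h := hirr.prime.dvd_of_dvd_pow
      (irreducible_dvd_of_dvd_charpoly A hirr (UniqueFactorizationMonoid.dvd_of_mem_normalizedFactors hg) hA)
    have ha := hirr.associated_of_dvd hf h
    exact eq_of_monic_of_associated ((Polynomial.mem_normalizedFactors_iff A.charpoly_monic.ne_zero).mp hg).2.1 hm ha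
  refine ⟨Multiset.card (UniqueFactorizationMonoid.normalizedFactors A.charpoly), ?_⟩
  have h := UniqueFactorizationMonoid.prod_normalizedFactors_eq (A.charpoly_monic.ne_zero)
  rw [A.charpoly_monic.normalize_eq_self, Multiset.eq_replicate_of_mem hall, Multiset.prod_replicate] at h
  exact h.symm

/-- An idempotent matrix: the determinant of `c e + d (1 - e)`. -/
theorem det_idempotent {F : Type*} [Field F] {n : ℕ} (e : Matrix (Fin n) (Fin n) F) (he : e * e = e)
    (h0 : e ≠ 0) (h1 : e ≠ 1) :
    ∃ a b : ℕ, 0 < a ∧ 0 < b ∧ a + b = n ∧ ∀ c d : F, (d • (1 : Matrix (Fin n) (Fin n) F) + (c - d) • e).det = d ^ a * c ^ b := by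
  classical
  have hann : aeval e ((X : F[X]) * (X - 1)) = 0 := by
    simp [map_mul, mul_sub, he]
  set s := UniqueFactorizationMonoid.normalizedFactors e.charpoly with hs
  have hall : ∀ g ∈ s, g = X ∨ g = X - 1 := by
    intro g hg
    have hirr := UniqueFactorizationMonoid.irreducible_of_normalized_factor g hg
    have hd := irreducible_dvd_of_dvd_charpoly e hirr (UniqueFactorizationMonoid.dvd_of_mem_normalizedFactors hg) hann
    rcases hirr.prime.dvd_or_dvd hd with h | h
    · exact Or.inl (eq_of_monic_of_associated ((Polynomial.mem_normalizedFactors_iff e.charpoly_monic.ne_zero).mp hg).2.1 monic_X (hirr.associated_of_dvd irreducible_X h))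
    · refine Or.inr (eq_of_monic_of_associated ((Polynomial.mem_normalizedFactors_iff e.charpoly_monic.ne_zero).mp hg).2.1 ?_ (hirr.associated_of_dvd ?_ h))
      · simpa using monic_X_sub_C (1 : F)
      · simpa using irreducible_X_sub_C (1 : F)
  have hchar : e.charpoly = X ^ s.count X * (X - 1) ^ s.count (X - 1) := by
    have h := UniqueFactorizationMonoid.prod_normalizedFactors_eq (e.charpoly_monic.ne_zero)
    rw [e.charpoly_monic.normalize_eq_self, ← hs] at h
    rw [← h, Finset.prod_multiset_count]
    have hsub : s.toFinset ⊆ {X, X - 1} := by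
      intro g hg
      simpa using hall g (Multiset.mem_toFinset.mp hg)
    have hne : (X : F[X]) ≠ X - 1 := by
      intro h; simpa using congrArg (Polynomial.eval 0) h
    rw [Finset.prod_subset hsub, Finset.prod_pair hne, hs]
    intro x _ hx
    rw [Multiset.count_eq_zero.mpr (fun hm => hx (Multiset.mem_toFinset.mpr hm)), pow_zero]
  set a := s.count X
  set b := s.count (X - 1)
  have hab : a + b = n := by
    have h := congrArg natDegree hchar
    rw [Matrix.charpoly_natDegree_eq_dim, Fintype.card_fin, natDegree_mul (pow_ne_zero _ X_ne_zero)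
      (pow_ne_zero _ (by simpa using X_sub_C_ne_zero (1 : F))), natDegree_pow, natDegree_pow, natDegree_X,
      show ((X : F[X]) - 1).natDegree = 1 by simpa using natDegree_X_sub_C (1 : F)] at h
    omega
  have hcay := Matrix.aeval_self_charpoly e
  rw [hchar, map_mul, map_pow, map_pow, aeval_X, map_sub, aeval_X, map_one] at hcay
  have hpow : ∀ k, 1 ≤ k → e ^ k = e := by
    intro k hk
    induction k with
    | zero => omega
    | succ k ih =>
      rcases Nat.eq_zero_or_pos k with rfl | hk'
      · simp
      · rw [pow_succ, ih hk', he]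
  have hpow' : ∀ k, 1 ≤ k → (e - 1) ^ k = (-1 : F) ^ (k + 1) • (e - 1) := by
    intro k hk
    induction k with
    | zero => omega
    | succ k ih =>
      rcases Nat.eq_zero_or_pos k with rfl | hk'
      · simp
      · rw [pow_succ, ih hk', smul_mul_assoc,
          show (e - 1) * (e - 1) = (-1 : F) • (e - 1) by rw [sub_mul, mul_sub, he, neg_one_smul]; noncomm_ring,
          smul_smul, ← pow_succ]
  have ha : 0 < a := by
    by_contra h
    have : a = 0 := by omega
    rw [this, pow_zero, one_mul] at hcay
    rcases Nat.eq_zero_or_pos b with hb | hb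
    · apply h0
      have hn : n = 0 := by omega
      subst hn
      exact Subsingleton.elim _ _
    · rw [hpow' b hb, smul_eq_zero] at hcay
      exact h1 (sub_eq_zero.mp (hcay.resolve_left (by simp)))
  have hb : 0 < b := by
    by_contra h
    have : b = 0 := by omega
    rw [this, pow_zero, mul_one, hpow a ha] at hcay
    exact h0 hcay
  refine ⟨a, b, ha, hb, hab, fun c d => ?_⟩
  rcases eq_or_ne c d with rfl | hcd
  · rw [sub_self, zero_smul, add_zero, Matrix.det_smul, Matrix.det_one, mul_one, Fintype.card_fin, ← pow_add, hab]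
  have hdc : d - c ≠ 0 := sub_ne_zero.mpr hcd.symm
  set t := d / (d - c) with ht
  have hev : (e.charpoly).eval t = (Matrix.scalar (Fin n) t - e).det := Matrix.eval_charpoly e t
  have hM : d • (1 : Matrix (Fin n) (Fin n) F) + (c - d) • e = (d - c) • (Matrix.scalar (Fin n) t - e) := by
    rw [smul_sub, ← Matrix.smul_one_eq_diagonal t |>.trans (Matrix.scalar_apply t).symm, smul_smul, ht,
      mul_div_cancel₀ _ hdc, ← neg_sub d c, neg_smul, ← sub_eq_add_neg]
  rw [hM, Matrix.det_smul, ← hev, hchar, eval_mul, eval_pow, eval_pow, eval_X, eval_sub, eval_X, eval_one,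
    Fintype.card_fin, ← hab, pow_add, mul_mul_mul_comm, ← mul_pow, ← mul_pow]
  congr 2
  · rw [ht, mul_div_cancel₀ _ hdc]
  · rw [ht, mul_sub, mul_div_cancel₀ _ hdc]; ring

/-- A matrix is either primary or admits a nontrivial idempotent commuting with everything commuting with it. -/
theorem primary_or_idempotent {F : Type*} [Field F] {n : ℕ} (hn : 0 < n) (A : Matrix (Fin n) (Fin n) F) :
    (∃ f : F[X], Irreducible f ∧ f.Monic ∧ aeval A (f ^ n) = 0) ∨
      ∃ e : Matrix (Fin n) (Fin n) F, e * e = e ∧ e ≠ 0 ∧ e ≠ 1 ∧ A * e = e * A := by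
  classical
  have : Nonempty (Fin n) := ⟨⟨0, hn⟩⟩
  have hint : IsIntegral F A := Algebra.IsIntegral.isIntegral A
  set μ := minpoly F A with hμ
  have hμ0 : μ ≠ 0 := minpoly.ne_zero hint
  obtain ⟨g, hg1, hg2, hgdvd⟩ := Polynomial.exists_monic_irreducible_factor μ (minpoly.not_isUnit F A)
  have hg : g.Monic ∧ Irreducible g := ⟨hg1, hg2⟩
  obtain ⟨k, h, hgh, hμeq⟩ := WfDvdMonoid.max_power_factor hμ0 hg.2
  by_cases hu : IsUnit h
  · left
    refine ⟨g, hg.2, hg.1, ?_⟩
    have hk : k ≤ n := by
      have h1 := Polynomial.natDegree_le_of_dvd (Dvd.intro h hμeq.symm : g ^ k ∣ μ) hμ0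
      have h2 := Polynomial.natDegree_le_of_dvd (Matrix.minpoly_dvd_charpoly A) A.charpoly_monic.ne_zero
      rw [Matrix.charpoly_natDegree_eq_dim, Fintype.card_fin, ← hμ] at h2
      rw [natDegree_pow] at h1
      have := hg.2.natDegree_pos
      have : k * 1 ≤ k * g.natDegree := Nat.mul_le_mul_left k this
      omega
    have hd : μ ∣ g ^ n := by
      rw [hμeq]
      exact (mul_dvd_mul_left _ hu.dvd).trans (by rw [mul_one]; exact pow_dvd_pow g hk)
    obtain ⟨c, hc⟩ := hd
    rw [hc, map_mul, hμ, minpoly.aeval, zero_mul]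
  · right
    have hcop : IsCoprime (g ^ k) h := (hg.2.coprime_iff_not_dvd.mpr hgh).pow_left
    obtain ⟨u, v, huv⟩ := hcop
    refine ⟨aeval A (u * g ^ k), ?_, ?_, ?_, ?_⟩
    · have h2 : aeval A (u * g ^ k * (v * h)) = 0 := by
        rw [show u * g ^ k * (v * h) = u * v * (g ^ k * h) by ring, ← hμeq, map_mul, hμ, minpoly.aeval, mul_zero]
      have h3 : u * g ^ k * (u * g ^ k) = u * g ^ k - u * g ^ k * (v * h) := by linear_combination (u * g ^ k) * huv
      rw [← map_mul, h3, map_sub, h2, sub_zero]
    · intro h0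
      have h1 : h ∣ u * g ^ k := (Dvd.intro_left _ hμeq.symm : h ∣ μ).trans (minpoly.dvd F A h0)
      exact hu (isUnit_of_dvd_one (huv ▸ dvd_add h1 (dvd_mul_left h v)))
    · intro h1
      have h2 : aeval A (v * h) = 0 := by
        rw [show v * h = 1 - u * g ^ k by linear_combination huv, map_sub, map_one, h1, sub_self]
      have hk : k ≠ 0 := by
        rintro rfl
        rw [pow_zero, one_mul] at hμeq
        exact hgh (hμeq ▸ hgdvd)
      have h3 : g ∣ v * h := ((dvd_pow_self g hk).trans (Dvd.intro h hμeq.symm)).trans (minpoly.dvd F A h2)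
      exact hg.2.not_isUnit (isUnit_of_dvd_one (huv ▸ dvd_add ((dvd_pow_self g hk).trans (dvd_mul_left _ u)) h3))
    · have h1 := congrArg (aeval A) (mul_comm (X : F[X]) (u * g ^ k))
      rw [map_mul (aeval A) X, map_mul (aeval A) (u * g ^ k) X, aeval_X] at h1
      exact h1

/-- The Singer exponent modulo scalars: `M / gcd(M, q - 1)`, `M = (q^n - 1)/(q - 1)`. -/
def projSinger (q n : ℕ) : ℕ :=
  (∑ i ∈ Finset.range n, q ^ i) / Nat.gcd (∑ i ∈ Finset.range n, q ^ i) (q - 1)

/-- A primary matrix of determinant one: a power by the Singer exponent times a large power of `p` is scalar. -/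
theorem primary_pow_scalar {F : Type*} [Field F] [Finite F] (p : ℕ) [Fact p.Prime] [CharP F p] {n : ℕ}
    (hn : 0 < n) (A : Matrix (Fin n) (Fin n) F) (hdet : A.det = 1) {f : F[X]} (hf : Irreducible f) (hfm : f.Monic)
    (hA : aeval A (f ^ n) = 0) (a : ℕ) (ha : n ≤ p ^ a) :
    ∃ c : F, A ^ (projSinger (Nat.card F) n * p ^ a) = c • (1 : Matrix (Fin n) (Fin n) F) := by
  classical
  have : Nonempty (Fin n) := ⟨⟨0, hn⟩⟩
  have : CharP (Matrix (Fin n) (Fin n) F) p := inferInstance
  set q := Nat.card F with hq
  let σ : F ≃+* F := RingEquiv.ofBijective (iterateFrobenius F p a)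
    ((iterateFrobenius F p a).injective.bijective_of_finite)
  set f' : F[X] := f.map (σ : F →+* F) with hf'
  have hf'irr : Irreducible f' := by
    have h1 : f' = Polynomial.mapEquiv σ f := rfl
    rw [h1]
    exact (MulEquiv.irreducible_iff (Polynomial.mapEquiv σ)).mpr hf
  have hf'm : f'.Monic := hfm.map _
  set h := A ^ p ^ a with hh
  have hkill : aeval h f' = 0 := by
    have h1 : aeval A (f ^ p ^ a) = 0 := by
      obtain ⟨c, hc⟩ := pow_dvd_pow f ha
      rw [hc, map_mul, hA, zero_mul]
    rw [← h1, hh, ← aeval_X_pow (R := F) A (n := p ^ a), ← aeval_comp]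
    congr 1
    have : (f.map (iterateFrobenius F p a)).comp (X ^ p ^ a) = f ^ p ^ a := by
      rw [← Polynomial.expand_eq_comp_X_pow, ← Polynomial.map_expand]
      exact Polynomial.map_iterateFrobenius_expand p f a
    exact this
  obtain ⟨e, he⟩ := charpoly_eq_pow h hf'irr hf'm 1 (by rwa [pow_one])
  have hdeg : n = e * f'.natDegree := by
    have := congrArg natDegree he
    rwa [Matrix.charpoly_natDegree_eq_dim, Fintype.card_fin, natDegree_pow] at this
  have : NeZero n := ⟨by omega⟩
  let K := FiniteField.Extension F p n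
  have : Fintype K := Fintype.ofFinite K
  have : Fintype F := Fintype.ofFinite F
  have hfact : Fact (Irreducible f') := ⟨hf'irr⟩
  have : Module.Finite F (AdjoinRoot f') := PowerBasis.finite (AdjoinRoot.powerBasis hf'irr.ne_zero)
  have : Finite (AdjoinRoot f') := Module.finite_of_finite F
  obtain ⟨ι⟩ : Nonempty (AdjoinRoot f' →ₐ[F] K) := by
    apply FiniteField.nonempty_algHom_of_finrank_dvd
    rw [(AdjoinRoot.powerBasis hf'irr.ne_zero).finrank, AdjoinRoot.powerBasis_dim, FiniteField.finrank_extension, hdeg]
    exact dvd_mul_left _ _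
  set x := ι (AdjoinRoot.root f') with hx
  have hx0 : aeval x f' = 0 := by
    rw [hx, Polynomial.aeval_algHom_apply, AdjoinRoot.aeval_eq, AdjoinRoot.mk_self, map_zero]
  have hminx : minpoly F x = f' := by
    exact (minpoly.eq_of_irreducible_of_monic hf'irr hx0 hf'm).symm
  have hnorm : Algebra.norm F x = 1 := by
    have h1 : h.det = 1 := by rw [hh, Matrix.det_pow, hdet, one_pow]
    rw [Matrix.det_eq_sign_charpoly_coeff, he, Fintype.card_fin] at h1
    have hx' : IsIntegral F x := Algebra.IsIntegral.isIntegral x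
    rw [Algebra.norm_eq_norm_adjoin F x, ← h1]
    rw [← IntermediateField.adjoin.powerBasis_gen hx', Algebra.PowerBasis.norm_gen_eq_coeff_zero_minpoly,
      IntermediateField.adjoin.powerBasis_gen hx', IntermediateField.minpoly_gen, hminx,
      IntermediateField.adjoin.powerBasis_dim hx', hminx]
    have hfin : Module.finrank (IntermediateField.adjoin F ({x} : Set K)) K = e := by
      have h2 := Module.finrank_mul_finrank F (IntermediateField.adjoin F ({x} : Set K)) K
      rw [IntermediateField.adjoin.finrank hx', hminx, FiniteField.finrank_extension] at h2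
      have h3 : f'.natDegree * Module.finrank (IntermediateField.adjoin F ({x} : Set K)) K = f'.natDegree * e := by
        rw [h2, hdeg, mul_comm]
      exact Nat.eq_of_mul_eq_mul_left hf'irr.natDegree_pos h3
    rw [hfin, mul_pow, ← pow_mul, mul_comm f'.natDegree e, ← hdeg, Polynomial.coeff_zero_eq_eval_zero,
      Polynomial.coeff_zero_eq_eval_zero, eval_pow]
  set M := ∑ i ∈ Finset.range n, q ^ i with hM
  have hxM : x ^ M = 1 := by
    have h1 : algebraMap F K (Algebra.norm F x) = x ^ (∑ i ∈ Finset.range (Module.finrank F K), q ^ i) := by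
      rw [FiniteField.algebraMap_norm_eq_pow_sum]
    rw [hnorm, map_one, FiniteField.finrank_extension] at h1
    exact h1.symm
  set c := Nat.gcd M (q - 1) with hcdef
  have hy : (x ^ (M / c)) ^ (q - 1) = 1 := by
    obtain ⟨j, hj⟩ := Nat.gcd_dvd_right M (q - 1)
    rw [← hcdef] at hj
    rw [hj, ← pow_mul, ← mul_assoc, Nat.div_mul_cancel (Nat.gcd_dvd_left _ _), pow_mul, hxM, one_pow]
  obtain ⟨z, hz⟩ : ∃ z : F, algebraMap F K z = x ^ (M / c) := by
    set y := x ^ (M / c) with hydef
    have hyq : y ^ q = y := by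
      have h1 : 1 ≤ q := by rw [hq]; exact Nat.card_pos
      rw [show q = q - 1 + 1 by omega, pow_succ, hy, one_mul]
    have hroots : ((X : K[X]) ^ q - X).roots = Finset.univ.val.map (algebraMap F K) := by
      have h1 := FiniteField.roots_X_pow_card_sub_X F
      rw [← Nat.card_eq_fintype_card, ← hq] at h1
      have hs : ((X : F[X]) ^ q - X).Splits := by
        rw [Polynomial.splits_iff_card_roots, h1,
          FiniteField.X_pow_card_sub_X_natDegree_eq _ Finite.one_lt_card]
        simp [Nat.card_eq_fintype_card]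
      have h2 := hs.roots_map (algebraMap F K)
      rw [h1] at h2
      simpa using h2
    have hne : ((X : K[X]) ^ q - X) ≠ 0 := FiniteField.X_pow_card_sub_X_ne_zero _ (by rw [hq]; exact Finite.one_lt_card)
    have hmem : y ∈ ((X : K[X]) ^ q - X).roots := by
      rw [Polynomial.mem_roots hne]
      simp [hyq]
    rw [hroots, Multiset.mem_map] at hmem
    obtain ⟨z, _, hz⟩ := hmem
    exact ⟨z, hz⟩
  refine ⟨z, ?_⟩
  have hdvd : minpoly F x ∣ X ^ (M / c) - C z := minpoly.dvd F x (by simp [hz])
  rw [hminx] at hdvd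
  obtain ⟨w, hw⟩ := hdvd
  have h2 := congrArg (aeval h) hw
  rw [map_mul, hkill, zero_mul, map_sub, map_pow, aeval_X, aeval_C, sub_eq_zero, Algebra.algebraMap_eq_smul_one] at h2
  rw [← h2, hh, ← pow_mul, mul_comm]
  rfl

end CfsgLib.GLOrders
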