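import Cfsg.Agent.GLOrders.Primary
import Cfsg.Agent.WordLaw.Embed

/-! Elements of `PSL_n(F)`: Singer element, unipotent element, torus elements attached to idempotents. -/

set_option autoImplicit false

namespace CfsgLib.GLOrders

open Polynomial

variable {F : Type*} [Field F] [Fintype F] {n : ℕ}

local notation "π" => QuotientGroup.mk' (Subgroup.center (Matrix.SpecialLinearGroup (Fin n) F))

theorem mk_eq_one_iff (s : Matrix.SpecialLinearGroup (Fin n) F) :
    π s = 1 ↔ ∃ c : F, (s : Matrix (Fin n) (Fin n) F) = c • (1 : Matrix (Fin n) (Fin n) F) := by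
  refine (QuotientGroup.eq_one_iff s).trans ?_
  rw [Matrix.SpecialLinearGroup.mem_center_iff]
  constructor
  · rintro ⟨c, -, hc⟩
    exact ⟨c, by rw [← hc, Matrix.scalar_apply, Matrix.smul_one_eq_diagonal]⟩
  · rintro ⟨c, hc⟩
    refine ⟨c, ?_, by rw [hc, Matrix.scalar_apply, Matrix.smul_one_eq_diagonal]⟩
    have := s.2
    rwa [hc, Matrix.det_smul, Matrix.det_one, mul_one] at this

/-- An element of `p`-power order keeps its order in the projective group. -/
theorem orderOf_mk_unipotent (p : ℕ) [Fact p.Prime] [CharP F p] (hn : 0 < n) (s : Matrix.SpecialLinearGroup (Fin n) F)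
    (a : ℕ) (hs : orderOf s = p ^ a) : orderOf (π s) = p ^ a := by
  have : Nonempty (Fin n) := ⟨⟨0, hn⟩⟩
  refine Nat.dvd_antisymm (hs ▸ orderOf_map_dvd π s) ?_
  rw [← hs]
  apply orderOf_dvd_of_pow_eq_one
  have h := pow_orderOf_eq_one (π s)
  rw [← map_pow, mk_eq_one_iff] at h
  obtain ⟨c, hc⟩ := h
  set t := s ^ orderOf (π s) with ht
  have h1 : t ^ p ^ a = 1 := by rw [ht, ← pow_mul, mul_comm, pow_mul, ← hs, pow_orderOf_eq_one, one_pow]
  have h2 := congrArg (fun g : Matrix.SpecialLinearGroup (Fin n) F => (g : Matrix (Fin n) (Fin n) F)) h1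
  simp only [Matrix.SpecialLinearGroup.coe_pow, Matrix.SpecialLinearGroup.coe_one, hc, _root_.smul_pow, one_pow] at h2
  have h3 : c ^ p ^ a = 1 := by
    have := congrFun (congrFun h2 ⟨0, hn⟩) ⟨0, hn⟩
    simpa using this
  have h4 : c = 1 := by
    have h5 : (c - 1) ^ p ^ a = 0 := by rw [sub_pow_char_pow, h3, one_pow, sub_self]
    exact sub_eq_zero.mp (eq_zero_of_pow_eq_zero h5)
  apply Subtype.ext
  rw [hc, h4, one_smul]
  rfl

/-- Singer element of the projective group. -/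
theorem exists_psl_singer (hn : 0 < n) :
    ∃ s : Matrix.SpecialLinearGroup (Fin n) F, projSinger (Nat.card F) n ∣ orderOf (π s) := by
  classical
  obtain ⟨p, hp⟩ := CharP.exists F
  have : Fact p.Prime := ⟨CharP.char_is_prime F p⟩
  have : NeZero n := ⟨by omega⟩
  let K := FiniteField.Extension F p n
  have : Fintype K := Fintype.ofFinite K
  let b := (Module.finBasis F K).reindex (finCongr (FiniteField.finrank_extension F p n))
  obtain ⟨w, hw⟩ := IsCyclic.exists_generator (α := Kˣ)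
  set q := Nat.card F with hq
  have hq2 : 2 ≤ q := by rw [hq]; exact Finite.one_lt_card
  set M := ∑ i ∈ Finset.range n, q ^ i with hM
  have hMq : M * (q - 1) + 1 = q ^ n := by
    have h := geom_sum_mul_add (q - 1) n
    rwa [show q - 1 + 1 = q by omega] at h
  have hwo : orderOf w = q ^ n - 1 := by
    rw [orderOf_eq_card_of_forall_mem_zpowers hw, Nat.card_units, FiniteField.natCard_extension]
  set x : K := (w : K) ^ (q - 1) with hx
  have hdet : (Algebra.leftMulMatrix b x).det = 1 := by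
    rw [← Algebra.norm_eq_matrix_det]
    apply (algebraMap F K).injective
    rw [FiniteField.algebraMap_norm_eq_pow_sum, FiniteField.finrank_extension, map_one, ← hq, ← hM, hx, ← pow_mul,
      ← Units.val_pow_eq_pow_val, mul_comm, show M * (q - 1) = orderOf w by omega, pow_orderOf_eq_one, Units.val_one]
  let s : Matrix.SpecialLinearGroup (Fin n) F := ⟨Algebra.leftMulMatrix b x, hdet⟩
  refine ⟨s, ?_⟩
  have h := pow_orderOf_eq_one (π s)
  rw [← map_pow, mk_eq_one_iff] at h
  obtain ⟨c, hc⟩ := h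
  set j := orderOf (π s) with hj
  rw [Matrix.SpecialLinearGroup.coe_pow] at hc
  change (Algebra.leftMulMatrix b x) ^ j = _ at hc
  rw [← map_pow, ← Algebra.algebraMap_eq_smul_one, ← AlgHom.commutes (Algebra.leftMulMatrix b)] at hc
  have hxj : x ^ j = algebraMap F K c := Algebra.leftMulMatrix_injective b hc
  have hc0 : c ≠ 0 := by
    rintro rfl
    rw [map_zero] at hxj
    exact pow_ne_zero _ (pow_ne_zero _ w.ne_zero) hxj
  have h1 : (w ^ ((q - 1) * j * (q - 1)) : Kˣ) = 1 := by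
    apply Units.ext
    rw [Units.val_pow_eq_pow_val, Units.val_one, pow_mul, pow_mul, ← hx, hxj, ← map_pow, hq, Nat.card_eq_fintype_card,
      FiniteField.pow_card_sub_one_eq_one c hc0, map_one]
  have h2 := orderOf_dvd_of_pow_eq_one h1
  rw [hwo, show q ^ n - 1 = M * (q - 1) by omega] at h2
  have h3 : M ∣ (q - 1) * j := Nat.dvd_of_mul_dvd_mul_right (by omega) h2
  show M / Nat.gcd M (q - 1) ∣ j
  have hg : 0 < Nat.gcd M (q - 1) := Nat.gcd_pos_of_pos_right _ (by omega)
  refine (Nat.coprime_div_gcd_div_gcd hg).dvd_of_dvd_mul_left ?_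
  obtain ⟨g1, hg1⟩ := Nat.gcd_dvd_left M (q - 1)
  obtain ⟨g2, hg2⟩ := Nat.gcd_dvd_right M (q - 1)
  set g := Nat.gcd M (q - 1)
  rw [hg1, hg2, mul_assoc] at h3
  rw [hg1, hg2, Nat.mul_div_cancel_left _ hg, Nat.mul_div_cancel_left _ hg]
  exact Nat.dvd_of_mul_dvd_mul_left hg h3

/-- The torus element of order `r` attached to an idempotent. -/
theorem exists_of_idempotent (r : ℕ) (hr : r.Prime) (hrq : r ∣ Nat.card F - 1) (hrn : ¬ r ∣ n)
    (e : Matrix (Fin n) (Fin n) F) (he : e * e = e) (h0 : e ≠ 0) (h1 : e ≠ 1) :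
    ∃ y : Matrix.SpecialLinearGroup (Fin n) F, orderOf (π y) = r ∧
      ∀ g : Matrix.SpecialLinearGroup (Fin n) F, (g : Matrix (Fin n) (Fin n) F) * e = e * g → Commute g y := by
  classical
  have : Fact r.Prime := ⟨hr⟩
  obtain ⟨a, b, ha, hb, hab, hdet⟩ := det_idempotent e he h0 h1
  obtain ⟨ζ, hζ⟩ := exists_prime_orderOf_dvd_card' (G := Fˣ) r (by rw [Nat.card_units]; exact hrq)
  obtain ⟨d, hd⟩ : ∃ d : Fˣ, d = ζ ^ b := ⟨_, rfl⟩
  obtain ⟨c, hc⟩ : ∃ c : Fˣ, c = ζ⁻¹ ^ a := ⟨_, rfl⟩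
  have hζr : ζ ^ r = 1 := hζ ▸ pow_orderOf_eq_one ζ
  have hdr : d ^ r = 1 := by rw [hd, ← pow_mul, mul_comm, pow_mul, hζr, one_pow]
  have hcr : c ^ r = 1 := by rw [hc, ← pow_mul, mul_comm, pow_mul, inv_pow, hζr, inv_one, one_pow]
  have hprod : d ^ a * c ^ b = 1 := by
    rw [hd, hc, ← pow_mul, ← pow_mul, mul_comm b a, inv_pow, mul_inv_cancel]
  have hne : c ≠ d := by
    intro h
    rw [hc, hd, inv_pow, inv_eq_iff_mul_eq_one, ← pow_add] at h
    exact hrn (hab ▸ hζ ▸ orderOf_dvd_of_pow_eq_one h)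
  have hD : (((d : F) • (1 : Matrix (Fin n) (Fin n) F) + ((c : F) - d) • e)).det = 1 := by
    rw [hdet, ← Units.val_pow_eq_pow_val, ← Units.val_pow_eq_pow_val, ← Units.val_mul, hprod, Units.val_one]
  obtain ⟨y, hy⟩ : ∃ y : Matrix.SpecialLinearGroup (Fin n) F,
      (y : Matrix (Fin n) (Fin n) F) = (d : F) • (1 : Matrix (Fin n) (Fin n) F) + ((c : F) - d) • e := ⟨⟨_, hD⟩, rfl⟩
  have hpow : ∀ k : ℕ, ((y ^ k : Matrix.SpecialLinearGroup (Fin n) F) : Matrix (Fin n) (Fin n) F) =
      ((d : F) ^ k) • (1 : Matrix (Fin n) (Fin n) F) + ((c : F) ^ k - (d : F) ^ k) • e := by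
    intro k
    induction k with
    | zero => simp
    | succ k ih =>
      rw [pow_succ, Matrix.SpecialLinearGroup.coe_mul, ih, hy]
      simp only [add_mul, mul_add, Matrix.smul_mul, Matrix.mul_smul, Matrix.one_mul, Matrix.mul_one, he, smul_smul, pow_succ]
      module
  refine ⟨y, orderOf_eq_prime ?_ ?_, fun g hg => ?_⟩
  · rw [← map_pow]
    refine (mk_eq_one_iff _).mpr ⟨1, ?_⟩
    rw [hpow, ← Units.val_pow_eq_pow_val, ← Units.val_pow_eq_pow_val, hdr, hcr, sub_self, zero_smul, add_zero, Units.val_one]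
  · intro h
    obtain ⟨t, ht⟩ := (mk_eq_one_iff y).mp h
    rw [hy] at ht
    have ht' : ((c : F) - d) • e = (t - (d : F)) • (1 : Matrix (Fin n) (Fin n) F) := by
      rw [sub_smul t, ← ht]; abel
    have hcd : (c : F) - d ≠ 0 := sub_ne_zero.mpr fun h' => hne (Units.ext h')
    have h2 : e = (((c : F) - d)⁻¹ * (t - d)) • (1 : Matrix (Fin n) (Fin n) F) := by
      rw [← smul_smul, ← ht', smul_smul, inv_mul_cancel₀ hcd, one_smul]
    set u := ((c : F) - d)⁻¹ * (t - d)
    rw [h2, smul_mul_smul_comm, one_mul] at he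
    have : Nonempty (Fin n) := ⟨⟨0, by omega⟩⟩
    have hu : u * u = u := by
      have := congrFun (congrFun he (Classical.arbitrary _)) (Classical.arbitrary _)
      simpa using this
    rcases eq_or_ne u 0 with hu0 | hu0
    · exact h0 (by rw [h2, hu0, zero_smul])
    · exact h1 (by rw [h2, mul_right_eq_self₀.mp hu |>.resolve_right hu0, one_smul])
  · apply Subtype.ext
    rw [Matrix.SpecialLinearGroup.coe_mul, Matrix.SpecialLinearGroup.coe_mul, hy]
    simp only [mul_add, add_mul, Matrix.smul_mul, Matrix.mul_smul, Matrix.one_mul, Matrix.mul_one, hg]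

/-- The dichotomy: an element order divides `S * P` or a nontrivial order-`r` torus element commutes with it. -/
theorem order_dichotomy (p : ℕ) [Fact p.Prime] [CharP F p] (hn : 0 < n) (r : ℕ) (hr : r.Prime) (hrq : r ∣ Nat.card F - 1)
    (hrn : ¬ r ∣ n) (a : ℕ) (ha : n ≤ p ^ a) (x : Matrix.SpecialLinearGroup (Fin n) F ⧸ Subgroup.center (Matrix.SpecialLinearGroup (Fin n) F)) :
    orderOf x ∣ projSinger (Nat.card F) n * p ^ a ∨ ∃ y, Commute x y ∧ orderOf y = r := by
  obtain ⟨s, rfl⟩ := QuotientGroup.mk_surjective x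
  rcases primary_or_idempotent hn (s : Matrix (Fin n) (Fin n) F) with ⟨f, hf, hfm, hfA⟩ | ⟨e, he, h0, h1, hcomm⟩
  · left
    apply orderOf_dvd_of_pow_eq_one
    obtain ⟨c, hc⟩ := primary_pow_scalar p hn (s : Matrix (Fin n) (Fin n) F) s.2 hf hfm hfA a ha
    show (π s) ^ _ = 1
    rw [← map_pow]
    exact (mk_eq_one_iff _).mpr ⟨c, by rw [Matrix.SpecialLinearGroup.coe_pow, hc]⟩
  · right
    obtain ⟨y, hy, hc⟩ := exists_of_idempotent r hr hrq hrn e he h0 h1
    exact ⟨π y, (hc s hcomm).map π, hy⟩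

theorem coprime_projSinger (p : ℕ) [Fact p.Prime] [CharP F p] (hn : 0 < n) (a : ℕ) :
    Nat.Coprime (projSinger (Nat.card F) n) (p ^ a) := by
  apply Nat.Coprime.pow_right
  refine Nat.Coprime.coprime_dvd_left (Nat.div_dvd_of_dvd (Nat.gcd_dvd_left _ _)) ?_
  rw [Nat.coprime_comm, (Fact.out : p.Prime).coprime_iff_not_dvd]
  obtain ⟨m, -, hm⟩ := FiniteField.card F p
  have hpq : p ∣ Nat.card F := by rw [Nat.card_eq_fintype_card, hm]; exact dvd_pow_self p m.ne_zero
  intro h
  cases n with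
  | zero => omega
  | succ k =>
    rw [Finset.sum_range_succ', pow_zero] at h
    have h1 : p ∣ ∑ i ∈ Finset.range k, Nat.card F ^ (i + 1) :=
      Finset.dvd_sum fun i _ => hpq.trans (dvd_pow_self _ (by omega))
    exact (Fact.out : p.Prime).not_dvd_one ((Nat.dvd_add_right h1).mp h)

end CfsgLib.GLOrders
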