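import Mathlib.LinearAlgebra.Matrix.Rank
import Mathlib.LinearAlgebra.Matrix.NonsingularInverse
import Mathlib.LinearAlgebra.Matrix.GeneralLinearGroup.Defs
import Mathlib.LinearAlgebra.Matrix.SpecialLinearGroup
import Mathlib.LinearAlgebra.FiniteDimensional.Lemmas
import Mathlib.LinearAlgebra.Matrix.Block
import Mathlib.RingTheory.Nilpotent.Basic

/-! Regular nilpotent matrices: cyclic vector, normal form, commutant. -/

set_option autoImplicit false

namespace CfsgLib.GLOrders

open Matrix

variable {F : Type*} [Field F] {n : ℕ}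

/-- The standard nilpotent Jordan block `e_i ↦ e_(i+1)`. -/
def shiftMat (F : Type*) [Field F] (n : ℕ) : Matrix (Fin n) (Fin n) F :=
  Matrix.of fun i j => if i.val = j.val + 1 then 1 else 0

/-- The lower triangular Toeplitz matrix with first column `v`. -/
def toeplitz (v : Fin n → F) : Matrix (Fin n) (Fin n) F :=
  Matrix.of fun i j => if j.val ≤ i.val then v ⟨i.val - j.val, by omega⟩ else 0

theorem pow_ne_zero_of_rank (N : Matrix (Fin n) (Fin n) F) (hn : 1 ≤ n) (hrank : N.rank = n - 1) :
    N ^ (n - 1) ≠ 0 := by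
  classical
  have hker1 : Module.finrank F (LinearMap.ker N.mulVecLin) = 1 := by
    have h := LinearMap.finrank_range_add_finrank_ker N.mulVecLin
    rw [Module.finrank_fin_fun] at h
    have h2 : Module.finrank F (LinearMap.range N.mulVecLin) = n - 1 := hrank
    omega
  have key : ∀ k, Module.finrank F (LinearMap.ker (N ^ k).mulVecLin) ≤ k := by
    intro k
    induction k with
    | zero =>
      have : LinearMap.ker (N ^ 0).mulVecLin = ⊥ := by
        rw [pow_zero, Matrix.mulVecLin_one, LinearMap.ker_id]
      rw [this, finrank_bot]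
    | succ k ih =>
      set W := LinearMap.ker (N ^ (k + 1)).mulVecLin with hW
      let f : W →ₗ[F] (Fin n → F) := N.mulVecLin.comp W.subtype
      have h := LinearMap.finrank_range_add_finrank_ker f
      have h1 : LinearMap.range f ≤ LinearMap.ker (N ^ k).mulVecLin := by
        rintro _ ⟨w, rfl⟩
        have hw : (N ^ (k + 1)) *ᵥ (w : Fin n → F) = 0 := w.2
        show (N ^ k) *ᵥ (N *ᵥ (w : Fin n → F)) = 0
        rw [Matrix.mulVec_mulVec, ← pow_succ, hw]
      have h2 : Module.finrank F (LinearMap.ker f) ≤ 1 := by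
        rw [← hker1, ← Submodule.finrank_map_subtype_eq W (LinearMap.ker f)]
        refine Submodule.finrank_mono ?_
        rintro _ ⟨w, hw, rfl⟩
        exact hw
      have := Submodule.finrank_mono h1
      omega
  intro h0
  have h := key (n - 1)
  rw [h0, Matrix.mulVecLin_zero, LinearMap.ker_zero, finrank_top, Module.finrank_fin_fun] at h
  omega

theorem mul_shiftMat (P : Matrix (Fin n) (Fin n) F) (i j : Fin n) :
    (P * shiftMat F n) i j = if h : j.val + 1 < n then P i ⟨j.val + 1, h⟩ else 0 := by
  rw [Matrix.mul_apply]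
  by_cases h : j.val + 1 < n
  · rw [dif_pos h, Finset.sum_eq_single (⟨j.val + 1, h⟩ : Fin n)]
    · simp [shiftMat]
    · intro k _ hk
      rw [shiftMat, Matrix.of_apply, if_neg (fun hc => hk (Fin.ext hc)), mul_zero]
    · simp
  · rw [dif_neg h, Finset.sum_eq_zero]
    intro k _
    rw [shiftMat, Matrix.of_apply, if_neg (by have := k.isLt; omega), mul_zero]

theorem shiftMat_mul (P : Matrix (Fin n) (Fin n) F) (i j : Fin n) :
    (shiftMat F n * P) i j = if h : 1 ≤ i.val then P ⟨i.val - 1, by omega⟩ j else 0 := by
  rw [Matrix.mul_apply]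
  by_cases h : 1 ≤ i.val
  · rw [dif_pos h, Finset.sum_eq_single (⟨i.val - 1, by omega⟩ : Fin n)]
    · rw [shiftMat, Matrix.of_apply, if_pos (by simp only; omega), one_mul]
    · intro k _ hk
      rw [shiftMat, Matrix.of_apply, if_neg (fun hc => hk (Fin.ext (by simp; omega))), zero_mul]
    · simp
  · rw [dif_neg h, Finset.sum_eq_zero]
    intro k _
    rw [shiftMat, Matrix.of_apply, if_neg (by omega), zero_mul]

/-- The commutant of the standard block is the set of lower triangular Toeplitz matrices. -/
theorem commute_shiftMat_iff (hn : 1 ≤ n) (A : Matrix (Fin n) (Fin n) F) :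
    A * shiftMat F n = shiftMat F n * A ↔ A = toeplitz (fun i => A i ⟨0, hn⟩) := by
  constructor
  · intro h
    have key : ∀ (j : ℕ) (hj : j < n) (i : Fin n),
        A i ⟨j, hj⟩ = if j ≤ i.val then A ⟨i.val - j, by omega⟩ ⟨0, hn⟩ else 0 := by
      intro j
      induction j with
      | zero => intro hj i; simp
      | succ j ih =>
        intro hj i
        have h1 := congrFun (congrFun h i) ⟨j, by omega⟩
        rw [mul_shiftMat, shiftMat_mul, dif_pos hj] at h1
        rw [h1]
        by_cases hi : 1 ≤ i.val
        · rw [dif_pos hi, ih (by omega)]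
          simp only
          split_ifs with h2 h3 h3
          · congr 2; omega
          · omega
          · omega
          · rfl
        · rw [dif_neg hi, if_neg (by omega)]
    ext i j
    exact key j.val j.isLt i
  · intro h
    ext i j
    rw [h, mul_shiftMat, shiftMat_mul]
    simp only [toeplitz, Matrix.of_apply]
    split_ifs <;> first | rfl | (exfalso; omega) | (congr 2; omega)

theorem toeplitz_col (hn : 1 ≤ n) (v : Fin n → F) : (fun i => toeplitz v i ⟨0, hn⟩) = v := by
  ext i
  simp [toeplitz]
  intro h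
  rw [Fin.lt_def] at h
  simp at h

theorem det_toeplitz (hn : 1 ≤ n) (v : Fin n → F) : (toeplitz v).det = v ⟨0, hn⟩ ^ n := by
  rw [Matrix.det_of_isLowerTriangular]
  · rw [Finset.prod_eq_pow_card (b := v ⟨0, hn⟩) (fun i _ => by simp [toeplitz]), Finset.card_univ, Fintype.card_fin]
  · intro i j hij
    have : i.val < j.val := hij
    simp [toeplitz]
    omega

theorem shiftMat_pow (k : ℕ) (i j : Fin n) :
    (shiftMat F n ^ k) i j = if i.val = j.val + k then 1 else 0 := by
  induction k generalizing i j with
  | zero => rw [pow_zero, Matrix.one_apply]; simp [Fin.ext_iff]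
  | succ k ih =>
    rw [pow_succ', shiftMat_mul]
    by_cases h : 1 ≤ i.val
    · rw [dif_pos h, ih]
      refine if_congr ?_ rfl rfl
      simp only
      omega
    · rw [dif_neg h, if_neg (by omega)]

theorem shiftMat_pow_self : shiftMat F n ^ n = 0 := by
  ext i j
  rw [shiftMat_pow, if_neg (by omega), Matrix.zero_apply]

theorem rank_shiftMat (hn : 1 ≤ n) : (shiftMat F n).rank = n - 1 := by
  classical
  have hker : LinearMap.ker (shiftMat F n).mulVecLin =
      Submodule.span F {(Pi.single ⟨n - 1, by omega⟩ 1 : Fin n → F)} := by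
    ext v
    rw [LinearMap.mem_ker, Matrix.mulVecLin_apply, Submodule.mem_span_singleton]
    constructor
    · intro hv
      refine ⟨v ⟨n - 1, by omega⟩, funext fun i => ?_⟩
      by_cases hi : i = ⟨n - 1, by omega⟩
      · simp [hi]
      · have hi' : i.val + 1 < n := by
          have : i.val ≠ n - 1 := fun h => hi (Fin.ext h)
          omega
        have h := congrFun hv ⟨i.val + 1, hi'⟩
        simp only [Matrix.mulVec, dotProduct, Pi.zero_apply] at h
        rw [Finset.sum_eq_single i] at h
        · simp [shiftMat] at h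
          simp [hi, h]
        · intro k _ hk
          simp [shiftMat]
          intro hc
          exact absurd (Fin.ext (by omega)) hk
        · simp
    · rintro ⟨c, rfl⟩
      ext i
      simp [Matrix.mulVec, dotProduct, shiftMat, Pi.single_apply]
      intro h
      omega
  have h := LinearMap.finrank_range_add_finrank_ker (shiftMat F n).mulVecLin
  have h2 : Module.finrank F (LinearMap.range (shiftMat F n).mulVecLin) = (shiftMat F n).rank := rfl
  rw [hker, finrank_span_singleton (fun h' => by simpa using congrFun h' ⟨n - 1, by omega⟩), Module.finrank_fin_fun] at h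
  omega

/-- Normal form: a nilpotent matrix of rank `n - 1` is conjugate to the standard block. -/
theorem exists_conj_shiftMat (hn : 1 ≤ n) (N : Matrix (Fin n) (Fin n) F) (hnil : N ^ n = 0)
    (hrank : N.rank = n - 1) : ∃ P : GL (Fin n) F, N * (P : Matrix (Fin n) (Fin n) F) = (P : Matrix (Fin n) (Fin n) F) * shiftMat F n := by
  classical
  obtain ⟨v, hv⟩ : ∃ v, (N ^ (n - 1)) *ᵥ v ≠ 0 := by
    by_contra h
    push Not at h
    exact pow_ne_zero_of_rank N hn hrank (Matrix.ext_of_mulVec_single fun i => by rw [h, Matrix.zero_mulVec])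
  let P : Matrix (Fin n) (Fin n) F := Matrix.of fun i j => ((N ^ j.val) *ᵥ v) i
  have hmul : N * P = P * shiftMat F n := by
    ext i j
    rw [mul_shiftMat]
    have h1 : (N * P) i j = ((N ^ (j.val + 1)) *ᵥ v) i := by
      rw [pow_succ', ← Matrix.mulVec_mulVec]
      rfl
    rw [h1]
    by_cases h : j.val + 1 < n
    · rw [dif_pos h]; rfl
    · rw [dif_neg h, show j.val + 1 = n by omega, hnil, Matrix.zero_mulVec, Pi.zero_apply]
  have hPu : IsUnit P.det := by
    rw [isUnit_iff_ne_zero]
    intro hdet
    obtain ⟨c, hc0, hc⟩ := Matrix.exists_mulVec_eq_zero_iff.mpr hdet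
    have hex : ∃ i, i < n ∧ ∃ h : i < n, c ⟨i, h⟩ ≠ 0 := by
      obtain ⟨i, hi⟩ := Function.ne_iff.mp hc0
      exact ⟨i.val, i.isLt, i.isLt, hi⟩
    set i0 := Nat.find hex
    obtain ⟨hi0, hi0', hci⟩ := Nat.find_spec hex
    have h1 := congrArg (fun w => (N ^ (n - 1 - i0)) *ᵥ w) hc
    simp only [Matrix.mulVec_zero] at h1
    have h2 : P *ᵥ c = ∑ j : Fin n, c j • ((N ^ j.val) *ᵥ v) := by
      ext i
      simp [Matrix.mulVec, dotProduct, P, mul_comm]
    rw [h2, Matrix.mulVec_sum, Finset.sum_eq_single (⟨i0, hi0⟩ : Fin n)] at h1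
    · rw [Matrix.mulVec_smul, Matrix.mulVec_mulVec, ← pow_add, show n - 1 - i0 + i0 = n - 1 by omega] at h1
      exact hv ((smul_eq_zero.mp h1).resolve_left hci)
    · intro j _ hj
      rw [Matrix.mulVec_smul, Matrix.mulVec_mulVec, ← pow_add]
      rcases Nat.lt_or_ge j.val i0 with h | h
      · have := Nat.find_min hex h
        push Not at this
        rw [this j.isLt j.isLt, zero_smul]
      · have : j.val ≠ i0 := fun h' => hj (Fin.ext h')
        rw [pow_eq_zero_of_le (by omega) hnil, Matrix.zero_mulVec, smul_zero]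
    · simp
  exact ⟨Matrix.GeneralLinearGroup.mk'' P hPu, hmul⟩

end CfsgLib.GLOrders
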