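import Mathlib.GroupTheory.OrderOfElement
import Mathlib.Algebra.GCDMonoid.Nat

/-! Spectra of direct powers times an elementary abelian group, when the bad orders divide one of three numbers. -/

set_option autoImplicit false

namespace CfsgLib.GLOrders

theorem exists_orderOf_eq_of_dvd {L : Type*} [Monoid L] {t : L} {o : ℕ} (ht : 0 < orderOf t) (ho : o ∣ orderOf t) :
    ∃ u : L, orderOf u = o := by
  obtain ⟨k, hk⟩ := ho
  have hk0 : k ≠ 0 := by rintro rfl; rw [mul_zero] at hk; omega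
  refine ⟨t ^ k, ?_⟩
  rw [orderOf_pow_of_dvd hk0 (by rw [hk]; exact dvd_mul_left _ _), hk, Nat.mul_div_cancel _ (Nat.pos_of_ne_zero hk0)]

theorem range_orderOf_cube_three {L Z : Type*} [Group L] [Finite L] [Group Z] [Finite Z] (r A B P : ℕ)
    (hZ : ∀ z : Z, z ^ r = 1) (hr : r ∣ Nat.lcm A B)
    (hcase : ∀ a : L, (∃ a' : L, orderOf a ∣ orderOf a' ∧ r ∣ orderOf a') ∨ orderOf a ∣ A ∨ orderOf a ∣ B ∨ orderOf a ∣ P)
    (xA xB xP : L) (hA : A ∣ orderOf xA) (hB : B ∣ orderOf xB) (hP : P ∣ orderOf xP) :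
    Set.range (orderOf : L × L × L × Z → ℕ) = Set.range (orderOf : L × L × L → ℕ) := by
  ext o
  constructor
  · rintro ⟨⟨a, b, c, z⟩, rfl⟩
    have hz : orderOf z ∣ r := orderOf_dvd_of_pow_eq_one (hZ z)
    obtain ⟨t, ht⟩ : ∃ t : L × L × L, orderOf (a, b, c, z) ∣ orderOf t := by
      by_cases ha : ∃ a' : L, orderOf a ∣ orderOf a' ∧ r ∣ orderOf a'
      · obtain ⟨a', h1, h2⟩ := ha
        refine ⟨(a', b, c), ?_⟩
        simp only [Prod.orderOf]
        exact Nat.lcm_dvd (h1.trans (Nat.dvd_lcm_left _ _)) (Nat.lcm_dvd ((Nat.dvd_lcm_left _ _).trans (Nat.dvd_lcm_right _ _))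
          (Nat.lcm_dvd ((Nat.dvd_lcm_right _ _).trans (Nat.dvd_lcm_right _ _)) (hz.trans (h2.trans (Nat.dvd_lcm_left _ _)))))
      by_cases hb : ∃ a' : L, orderOf b ∣ orderOf a' ∧ r ∣ orderOf a'
      · obtain ⟨b', h1, h2⟩ := hb
        refine ⟨(a, b', c), ?_⟩
        simp only [Prod.orderOf]
        exact Nat.lcm_dvd (Nat.dvd_lcm_left _ _) (Nat.lcm_dvd (h1.trans ((Nat.dvd_lcm_left _ _).trans (Nat.dvd_lcm_right _ _)))
          (Nat.lcm_dvd ((Nat.dvd_lcm_right _ _).trans (Nat.dvd_lcm_right _ _))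
            (hz.trans (h2.trans ((Nat.dvd_lcm_left _ _).trans (Nat.dvd_lcm_right _ _))))))
      by_cases hc : ∃ a' : L, orderOf c ∣ orderOf a' ∧ r ∣ orderOf a'
      · obtain ⟨c', h1, h2⟩ := hc
        refine ⟨(a, b, c'), ?_⟩
        simp only [Prod.orderOf]
        exact Nat.lcm_dvd (Nat.dvd_lcm_left _ _) (Nat.lcm_dvd ((Nat.dvd_lcm_left _ _).trans (Nat.dvd_lcm_right _ _))
          ((Nat.lcm_dvd h1 (hz.trans h2)).trans ((Nat.dvd_lcm_right _ _).trans (Nat.dvd_lcm_right _ _))))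
      refine ⟨(xA, xB, xP), ?_⟩
      simp only [Prod.orderOf]
      have h1 : A ∣ Nat.lcm (orderOf xA) (Nat.lcm (orderOf xB) (orderOf xP)) := hA.trans (Nat.dvd_lcm_left _ _)
      have h2 : B ∣ Nat.lcm (orderOf xA) (Nat.lcm (orderOf xB) (orderOf xP)) :=
        hB.trans ((Nat.dvd_lcm_left _ _).trans (Nat.dvd_lcm_right _ _))
      have h3 : P ∣ Nat.lcm (orderOf xA) (Nat.lcm (orderOf xB) (orderOf xP)) :=
        hP.trans ((Nat.dvd_lcm_right _ _).trans (Nat.dvd_lcm_right _ _))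
      have key : ∀ u : L, ¬ (∃ a' : L, orderOf u ∣ orderOf a' ∧ r ∣ orderOf a') →
          orderOf u ∣ Nat.lcm (orderOf xA) (Nat.lcm (orderOf xB) (orderOf xP)) := by
        intro u hu
        rcases (hcase u).resolve_left hu with h | h | h
        exacts [h.trans h1, h.trans h2, h.trans h3]
      exact Nat.lcm_dvd (key a ha) (Nat.lcm_dvd (key b hb) (Nat.lcm_dvd (key c hc) (hz.trans (hr.trans (Nat.lcm_dvd h1 h2)))))
    exact exists_orderOf_eq_of_dvd (orderOf_pos t) ht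
  · rintro ⟨⟨a, b, c⟩, rfl⟩
    exact ⟨(a, b, c, 1), by simp [Prod.orderOf]⟩

theorem range_orderOf_square_three {L Z : Type*} [Group L] [Finite L] [Group Z] [Finite Z] (r A B P : ℕ)
    (hZ : ∀ z : Z, z ^ r = 1) (hr : r ∣ Nat.lcm A B)
    (hcase : ∀ a : L, (∃ a' : L, orderOf a ∣ orderOf a' ∧ r ∣ orderOf a') ∨ orderOf a ∣ A ∨ orderOf a ∣ B ∨ orderOf a ∣ P)
    (xA xB xPr : L) (hA : A ∣ orderOf xA) (hB : B ∣ orderOf xB) (hP : P ∣ orderOf xPr ∧ r ∣ orderOf xPr) :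
    Set.range (orderOf : L × L × Z → ℕ) = Set.range (orderOf : L × L → ℕ) := by
  ext o
  constructor
  · rintro ⟨⟨a, b, z⟩, rfl⟩
    have hz : orderOf z ∣ r := orderOf_dvd_of_pow_eq_one (hZ z)
    obtain ⟨t, ht⟩ : ∃ t : L × L, orderOf (a, b, z) ∣ orderOf t := by
      simp only [Prod.orderOf]
      rcases hcase a with ⟨a', h1, h2⟩ | ha
      · exact ⟨(a', b), Nat.lcm_dvd (h1.trans (Nat.dvd_lcm_left _ _))
          (Nat.lcm_dvd (Nat.dvd_lcm_right _ _) (hz.trans (h2.trans (Nat.dvd_lcm_left _ _))))⟩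
      rcases hcase b with ⟨b', h1, h2⟩ | hb
      · exact ⟨(a, b'), Nat.lcm_dvd (Nat.dvd_lcm_left _ _) ((Nat.lcm_dvd h1 (hz.trans h2)).trans (Nat.dvd_lcm_right _ _))⟩
      have hAB : Nat.lcm A B ∣ Nat.lcm (orderOf xA) (orderOf xB) :=
        Nat.lcm_dvd (hA.trans (Nat.dvd_lcm_left _ _)) (hB.trans (Nat.dvd_lcm_right _ _))
      rcases ha with ha | ha | ha <;> rcases hb with hb | hb | hb
      all_goals first
        | exact ⟨(xA, xB), Nat.lcm_dvd (ha.trans ((by first | exact Nat.dvd_lcm_left A B | exact Nat.dvd_lcm_right A B : _ ∣ Nat.lcm A B).trans hAB))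
            (Nat.lcm_dvd (hb.trans ((by first | exact Nat.dvd_lcm_left A B | exact Nat.dvd_lcm_right A B : _ ∣ Nat.lcm A B).trans hAB))
              (hz.trans (hr.trans hAB)))⟩
        | exact ⟨(xA, xPr), Nat.lcm_dvd (ha.trans (by first | exact hA.trans (Nat.dvd_lcm_left _ _) | exact hP.1.trans (Nat.dvd_lcm_right _ _)))
            (Nat.lcm_dvd (hb.trans (by first | exact hA.trans (Nat.dvd_lcm_left _ _) | exact hP.1.trans (Nat.dvd_lcm_right _ _)))
              (hz.trans (hP.2.trans (Nat.dvd_lcm_right _ _))))⟩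
        | exact ⟨(xB, xPr), Nat.lcm_dvd (ha.trans (by first | exact hB.trans (Nat.dvd_lcm_left _ _) | exact hP.1.trans (Nat.dvd_lcm_right _ _)))
            (Nat.lcm_dvd (hb.trans (by first | exact hB.trans (Nat.dvd_lcm_left _ _) | exact hP.1.trans (Nat.dvd_lcm_right _ _)))
              (hz.trans (hP.2.trans (Nat.dvd_lcm_right _ _))))⟩
    exact exists_orderOf_eq_of_dvd (orderOf_pos t) ht
  · rintro ⟨⟨a, b⟩, rfl⟩
    exact ⟨(a, b, 1), by simp [Prod.orderOf]⟩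

end CfsgLib.GLOrders
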